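import Mathlib.RingTheory.Length
import Mathlib.RingTheory.Flat.FaithfullyFlat.Basic
import Mathlib.LinearAlgebra.TensorProduct.Quotient
import Mathlib.RingTheory.LocalRing.MaximalIdeal.Basic
import Mathlib.RingTheory.SimpleModule.Basic

/-!
# Length of a faithfully flat base change of modules
-/

set_option autoImplicit false

universe u

open TensorProduct

namespace GrothLib.LenTensor

variable {A B : Type u} [CommRing A] [CommRing B] [Algebra A B]
  (N : Type u) [AddCommGroup N] [Module B N] [Module A N] [IsScalarTower A B N]
  [Module.FaithfullyFlat A N]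

/-- The `B`-length of `N ⊗ M`. -/
noncomputable abbrev L (A B : Type u) [CommRing A] [CommRing B] [Algebra A B]
    (N : Type u) [AddCommGroup N] [Module B N] [Module A N] [IsScalarTower A B N] (M : Type u) [AddCommGroup M] [Module A M] : ℕ∞ :=
  Module.length B (N ⊗[A] M)

lemma L_add {M P Q : Type u} [AddCommGroup M] [Module A M] [AddCommGroup P] [Module A P]
    [AddCommGroup Q] [Module A Q] (f : P →ₗ[A] M) (g : M →ₗ[A] Q)
    (hf : Function.Injective f) (hg : Function.Surjective g) (H : Function.Exact f g) :
    L A B N M = L A B N P + L A B N Q := by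
  refine Module.length_eq_add_of_exact (TensorProduct.AlgebraTensorModule.lTensor B N f)
    (TensorProduct.AlgebraTensorModule.lTensor B N g) ?_ ?_ ?_
  · exact Module.Flat.lTensor_preserves_injective_linearMap f hf
  · exact LinearMap.lTensor_surjective N hg
  · exact Module.Flat.lTensor_exact N H

omit [Module.FaithfullyFlat A N] in
lemma L_congr {M P : Type u} [AddCommGroup M] [Module A M] [AddCommGroup P] [Module A P]
    (e : M ≃ₗ[A] P) : L A B N M = L A B N P :=
  (TensorProduct.AlgebraTensorModule.congr (LinearEquiv.refl B N) e).length_eq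

lemma L_pos (M : Type u) [AddCommGroup M] [Module A M] [Nontrivial M] : 1 ≤ L A B N M := by
  have : Nontrivial (N ⊗[A] M) := Module.FaithfullyFlat.lTensor_nontrivial A N M
  exact Order.one_le_iff_pos.2 Module.length_pos

lemma le_L_of_series {M : Type u} [AddCommGroup M] [Module A M] (s : LTSeries (Submodule A M)) :
    (s.length : ℕ∞) ≤ L A B N M := by
  suffices key : ∀ k : Fin (s.length + 1), ((k : ℕ) : ℕ∞) ≤ L A B N (s k) by
    refine (key (Fin.last _)).trans ?_
    rw [L_add (B := B) N (s (Fin.last _)).subtype (s (Fin.last _)).mkQ (Submodule.subtype_injective _)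
      (Submodule.mkQ_surjective _) (LinearMap.exact_subtype_mkQ _)]
    exact le_self_add
  intro k
  induction k using Fin.induction with
  | zero => simp
  | succ i ih =>
    have hlt : s i.castSucc < s i.succ := s.step i
    let p : Submodule A (s i.succ) := (s i.castSucc).comap (s i.succ).subtype
    have : Nontrivial ((s i.succ) ⧸ p) := Submodule.Quotient.nontrivial_iff.2 fun h =>
      hlt.not_ge fun x hx => (h ▸ trivial : (⟨x, hx⟩ : s i.succ) ∈ p)
    rw [L_add (B := B) N p.subtype p.mkQ (Submodule.subtype_injective _) (Submodule.mkQ_surjective _)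
      (LinearMap.exact_subtype_mkQ _), L_congr (B := B) N (Submodule.comapSubtypeEquivOfLe hlt.le)]
    simp only [Fin.val_succ, Fin.val_castSucc, Nat.cast_add, Nat.cast_one] at ih ⊢
    exact add_le_add ih (L_pos (A := A) (B := B) N _)

omit [Module.FaithfullyFlat A N] in
/-- Tensoring with a cyclic module. -/
lemma L_quotient (I : Ideal A) :
    L A B N (A ⧸ I) = Module.length B (N ⧸ (I.map (algebraMap A B) • (⊤ : Submodule B N))) := by
  let g : N →ₗ[B] N ⊗[A] (A ⧸ I) :=
    { toFun := fun n => n ⊗ₜ[A] Ideal.Quotient.mk I 1
      map_add' := fun x y => TensorProduct.add_tmul x y _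
      map_smul' := fun b x => rfl }
  have hg : Function.Surjective g := fun z => by
    obtain ⟨n, hn⟩ := Submodule.Quotient.mk_surjective _ (TensorProduct.tensorQuotEquivQuotSMul N I z)
    refine ⟨n, (TensorProduct.tensorQuotEquivQuotSMul N I).injective ?_⟩
    rw [show g n = n ⊗ₜ[A] Ideal.Quotient.mk I 1 from rfl, TensorProduct.tensorQuotEquivQuotSMul_tmul_mk, one_smul, hn]
  have hker : LinearMap.ker g = I.map (algebraMap A B) • (⊤ : Submodule B N) := by
    apply Submodule.restrictScalars_injective A
    rw [Ideal.smul_restrictScalars, Submodule.restrictScalars_top]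
    ext n
    rw [Submodule.restrictScalars_mem, LinearMap.mem_ker, show g n = n ⊗ₜ[A] Ideal.Quotient.mk I 1 from rfl,
      ← (TensorProduct.tensorQuotEquivQuotSMul N I).map_eq_zero_iff,
      TensorProduct.tensorQuotEquivQuotSMul_tmul_mk, one_smul, Submodule.Quotient.mk_eq_zero]
  rw [← hker]
  exact (g.quotKerEquivOfSurjective hg).length_eq.symm

theorem length_tensor [IsLocalRing A] (M : Type u) [AddCommGroup M] [Module A M] :
    Module.length B (N ⊗[A] M) = Module.length A M * Module.length B
      (N ⧸ ((IsLocalRing.maximalIdeal A).map (algebraMap A B) • (⊤ : Submodule B N))) := by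
  rw [← L_quotient]
  by_cases h : IsFiniteLength A M
  · induction h with
    | of_subsingleton => simp [Module.length_eq_zero]
    | @of_simple_quotient M _ _ S hS hfin ih =>
      obtain ⟨m, hm, ⟨e⟩⟩ := isSimpleModule_iff_quot_maximal.1 hS
      rw [IsLocalRing.eq_maximalIdeal hm] at e
      show L A B N M = _
      rw [L_add (B := B) N S.subtype S.mkQ (Submodule.subtype_injective _) (Submodule.mkQ_surjective _)
        (LinearMap.exact_subtype_mkQ _), Module.length_eq_add_of_exact S.subtype S.mkQ
        (Submodule.subtype_injective _) (Submodule.mkQ_surjective _) (LinearMap.exact_subtype_mkQ _),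
        L_congr (B := B) N e, Module.length_eq_one A (M ⧸ S), add_mul, one_mul]
      exact congrArg₂ _ ih rfl
  · have h' : Module.length A M = ⊤ := not_not.1 (mt Module.length_ne_top_iff.1 h)
    have hl : (1 : ℕ∞) ≤ L A B N (A ⧸ IsLocalRing.maximalIdeal A) := by
      have : Nontrivial (A ⧸ IsLocalRing.maximalIdeal A) := Ideal.Quotient.nontrivial_iff.2 (Ideal.IsMaximal.ne_top inferInstance)
      exact L_pos N _
    rw [h', ENat.top_mul (Order.one_le_iff_pos.1 hl).ne']
    have : InfiniteDimensionalOrder (Submodule A M) := Module.length_eq_top_iff_infiniteDimensionalOrder.1 h'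
    refine ENat.eq_top_iff_forall_ge.2 fun k => ?_
    have := le_L_of_series (B := B) N (LTSeries.withLength (Submodule A M) k)
    rwa [show (LTSeries.withLength (Submodule A M) k).length = k from LTSeries.length_withLength _ _] at this

end GrothLib.LenTensor
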